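import Mathlib
import Groth.Prelude.Def_SekSuwa2

set_option autoImplicit false
universe u
open CategoryTheory AlgebraicGeometry

namespace H5OverSpec

variable {R : Type u} [CommRing R] (X : Over (Spec (CommRingCat.of R)))

/-- structure map on global sections -/
noncomputable def ρR : R →+* Γ(X.left, ⊤) :=
  ((Scheme.ΓSpecIso (.of R)).inv ≫ X.hom.appTop).hom

variable {X}
variable {B : Type u} [CommRing B] [Algebra R B]

/-- ring hom attached to a morphism to an affine `R`-scheme -/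
noncomputable def ρ (f : X ⟶ (Spec (.of B)).asOver (Spec (.of R))) : B →+* Γ(X.left, ⊤) :=
  ((Scheme.ΓSpecIso (.of B)).inv ≫ f.left.appTop).hom

lemma ρ_algebraMap (f : X ⟶ (Spec (.of B)).asOver (Spec (.of R))) (r : R) :
    ρ f (algebraMap R B r) = ρR X r := by
  have hw : f.left ≫ Spec.map (CommRingCat.ofHom (algebraMap R B)) = X.hom := Over.w f
  have h1 : (Scheme.ΓSpecIso (.of R)).inv ≫ X.hom.appTop =
      CommRingCat.ofHom (algebraMap R B) ≫ (Scheme.ΓSpecIso (.of B)).inv ≫ f.left.appTop := by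
    rw [← hw, Scheme.Hom.comp_appTop, ← Category.assoc, ← Category.assoc,
      Scheme.ΓSpecIso_inv_naturality]
    rfl
  change _ = ((Scheme.ΓSpecIso (.of R)).inv ≫ X.hom.appTop).hom r
  rw [h1]
  rfl

lemma ρ_injective {f g : X ⟶ (Spec (.of B)).asOver (Spec (.of R))} (h : ρ f = ρ g) : f = g := by
  apply Over.OverMorphism.ext
  apply AlgebraicGeometry.ext_to_Spec
  apply CommRingCat.hom_ext
  exact h

lemma ρ_comp_specHom {B₁ B₂ : Type u} [CommRing B₁] [CommRing B₂] [Bialgebra R B₁] [Bialgebra R B₂]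
    (f : X ⟶ (Spec (.of B₂)).asOver (Spec (.of R))) (ψ : B₁ →ₐc[R] B₂) :
    ρ (f ≫ SekSuwa.specHom ψ) = (ρ f).comp (ψ : B₁ →+* B₂) := by
  have h0 : (f ≫ SekSuwa.specHom ψ).left.appTop =
      (Spec.map (CommRingCat.ofHom (ψ : B₁ →+* B₂))).appTop ≫
        (f.left : X.left ⟶ Spec (.of B₂)).appTop := rfl
  have h1 : (Scheme.ΓSpecIso (.of B₁)).inv ≫ (f ≫ SekSuwa.specHom ψ).left.appTop =
      CommRingCat.ofHom (ψ : B₁ →+* B₂) ≫ (Scheme.ΓSpecIso (.of B₂)).inv ≫
        (f.left : X.left ⟶ Spec (.of B₂)).appTop := by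
    rw [h0, ← Category.assoc, ← Scheme.ΓSpecIso_inv_naturality, Category.assoc]
  change ((Scheme.ΓSpecIso (.of B₁)).inv ≫ (f ≫ SekSuwa.specHom ψ).left.appTop).hom = _
  rw [h1]
  rfl

lemma ρR_regular [IsDomain R] [Flat X.hom] (r : R) (hr : r ≠ 0) (s : Γ(X.left, ⊤))
    (h : ρR X r * s = 0) : s = 0 := by
  apply Scheme.zero_of_zero_cover s X.left.affineCover
  intro i
  set g := X.left.affineCover.f i with hg
  have h1 : ((g ≫ X.hom).appTop).hom.Flat := Scheme.Hom.flat_appTop _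
  have h2 : ((Scheme.ΓSpecIso (.of R)).inv ≫ (g ≫ X.hom).appTop).hom.Flat := by
    rw [CommRingCat.hom_comp]
    exact RingHom.Flat.comp (RingHom.Flat.of_bijective (ConcreteCategory.bijective_of_isIso _)) h1
  set φ := ((Scheme.ΓSpecIso (.of R)).inv ≫ (g ≫ X.hom).appTop).hom with hφ
  change g.appTop s = 0
  have h3 : φ r * g.appTop s = 0 := by
    have h4 : φ r = g.appTop (ρR X r) := by
      rw [hφ, Scheme.Hom.comp_appTop]
      rfl
    rw [h4, ← map_mul, h, map_zero]
  algebraize [φ]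
  have hreg : IsSMulRegular R r := (IsRegular.of_ne_zero hr).left.isSMulRegular
  have h5 := IsSMulRegular.of_flat (S := Γ(X.left.affineCover.X i, ⊤)) hreg
  apply h5
  change φ r • g.appTop s = φ r • 0
  rw [smul_zero, smul_eq_mul]
  exact h3

end H5OverSpec
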