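import Mathlib
import Groth.Agent.Lib.Helper5.SekSuwa.OverSpec

set_option autoImplicit false
universe u
open CategoryTheory AlgebraicGeometry

namespace H5SekSuwa

open SekSuwa H5OverSpec

theorem main15363 (R : Type u) [CommRing R] [IsDomain R]
    (p : ℕ) [Fact p.Prime] (lam : R) (h : SekSuwa.DivCond lam p)
    (G : Over (Spec (CommRingCat.of R))) [Flat G.hom]
    (f g : G ⟶ SekSuwa.GK R lam p h)
    (hfg : f ≫ SekSuwa.alphaN R lam p h = g ≫ SekSuwa.alphaN R lam p h) : f = g := by
  apply ρ_injective
  have h1 : (ρ f).comp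
      (alphaNHom R lam p h : MonoidAlgebra R (Multiplicative (ZMod p)) →+* AK R lam p h) =
      (ρ g).comp
      (alphaNHom R lam p h : MonoidAlgebra R (Multiplicative (ZMod p)) →+* AK R lam p h) := by
    rw [← ρ_comp_specHom, ← ρ_comp_specHom]
    exact congrArg ρ hfg
  have h2 : ρ f (1 + lam • AK.t) = ρ g (1 + lam • AK.t) := by
    have := congrArg (fun φ => φ (MonoidAlgebra.single (Multiplicative.ofAdd (1 : ZMod p)) 1)) h1
    simp only [RingHom.comp_apply] at this
    have e := alphaNHom_single_one R lam p h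
    change ρ f (alphaNHom R lam p h _) = ρ g (alphaNHom R lam p h _) at this
    rwa [e] at this
  have hlam : lam ≠ 0 := nonZeroDivisors.ne_zero h.nzd
  have h3 : ρ f (AK.t : AK R lam p h) = ρ g AK.t := by
    have : ρR G lam * (ρ f (AK.t : AK R lam p h) - ρ g AK.t) = 0 := by
      rw [Algebra.smul_def, map_add, map_add, map_mul, map_mul, ρ_algebraMap, ρ_algebraMap, map_one,
        map_one] at h2
      linear_combination h2
    exact sub_eq_zero.mp (ρR_regular lam hlam _ this)
  have h4 : ρ f (AK.inv : AK R lam p h) = ρ g AK.inv := by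
    have e1 : (1 + lam • (AK.t : AK R lam p h)) * AK.inv = 1 := by
      have := congrArg (AK.mkHom R lam p h) (A.u_mul_inv (R := R) (lam := lam))
      rw [map_mul, map_one, A.u, map_add, map_one, map_smul] at this
      exact this
    have ef := congrArg (ρ f) e1
    have eg := congrArg (ρ g) e1
    rw [map_mul, map_one] at ef eg
    calc ρ f (AK.inv : AK R lam p h) = ρ f AK.inv * (ρ g (1 + lam • AK.t) * ρ g AK.inv) := by
          rw [eg, mul_one]
      _ = (ρ f (1 + lam • AK.t) * ρ f AK.inv) * ρ g AK.inv := by rw [h2]; ring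
      _ = ρ g AK.inv := by rw [ef, one_mul]
  letI : Algebra R Γ(G.left, ⊤) := (ρR G).toAlgebra
  let F : AK R lam p h →ₐ[R] Γ(G.left, ⊤) := { ρ f with commutes' := fun r => ρ_algebraMap f r }
  let F' : AK R lam p h →ₐ[R] Γ(G.left, ⊤) := { ρ g with commutes' := fun r => ρ_algebraMap g r }
  have hFF' : F = F' := AK.algHom_ext h3 h4
  exact RingHom.ext (fun z => DFunLike.congr_fun hFF' z)

end H5SekSuwa
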