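import Groth.Prelude.Def_SekSuwa2
import Groth.Prelude.Def_Mor2

set_option autoImplicit false
universe u
open CategoryTheory AlgebraicGeometry Polynomial

namespace H5SekSuwa

open SekSuwa

variable {R : Type u} [CommRing R] {lam : R} {N : ℕ}

lemma natDegree_base_le : (1 + Polynomial.C lam * Polynomial.X : R[X]).natDegree ≤ 1 := by
  refine (Polynomial.natDegree_add_le _ _).trans ?_
  rw [Polynomial.natDegree_one]
  simp only [zero_le, sup_of_le_right]
  exact (Polynomial.natDegree_C_mul_le _ _).trans Polynomial.natDegree_X_le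

lemma coeff_one_base : (1 + Polynomial.C lam * Polynomial.X : R[X]).coeff 1 = lam := by
  simp [Polynomial.coeff_one]

lemma psiPoly_coeff (h : DivCond lam N) (hN : 0 < N) (j : ℕ) (hj : N ≤ j) :
    (psiPoly lam N h).coeff j = if j = N then 1 else 0 := by
  have hs := psiPoly_spec h
  have h1 := congrArg (fun q => Polynomial.coeff q j) hs
  simp only [Polynomial.coeff_C_mul, Polynomial.coeff_sub] at h1
  have h1j : (1 : R[X]).coeff j = 0 := by
    rw [Polynomial.coeff_one, if_neg]; omega
  rw [h1j, sub_zero] at h1
  split_ifs with hjN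
  · subst hjN
    have h2 : ((1 + Polynomial.C lam * Polynomial.X : R[X]) ^ j).coeff (j * 1) = lam ^ j := by
      rw [Polynomial.coeff_pow_of_natDegree_le natDegree_base_le, coeff_one_base]
    rw [mul_one] at h2
    rw [h2] at h1
    exact cancel_nzd h.pow_nzd (by rw [h1, mul_one])
  · have h2 : ((1 + Polynomial.C lam * Polynomial.X : R[X]) ^ N).coeff j = 0 := by
      apply Polynomial.coeff_eq_zero_of_natDegree_lt
      refine lt_of_le_of_lt (Polynomial.natDegree_pow_le_of_le N natDegree_base_le) ?_
      omega
    rw [h2] at h1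
    exact cancel_nzd h.pow_nzd (by rw [h1, mul_zero])

lemma psiPoly_natDegree (h : DivCond lam N) (hN : 0 < N) [Nontrivial R] :
    (psiPoly lam N h).natDegree = N := by
  apply le_antisymm
  · rw [Polynomial.natDegree_le_iff_coeff_eq_zero]
    intro j hj
    rw [psiPoly_coeff h hN j hj.le, if_neg hj.ne']
  · apply Polynomial.le_natDegree_of_ne_zero
    rw [psiPoly_coeff h hN N le_rfl, if_pos rfl]
    exact one_ne_zero

lemma psiPoly_monic (h : DivCond lam N) (hN : 0 < N) : (psiPoly lam N h).Monic := by
  nontriviality R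
  rw [Polynomial.Monic, Polynomial.leadingCoeff, psiPoly_natDegree h hN, psiPoly_coeff h hN N le_rfl,
    if_pos rfl]

end H5SekSuwa
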