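import Mathlib.RingTheory.AdjoinRoot
import Groth.Agent.Lib.Helper5.SekSuwa.PsiPoly

set_option autoImplicit false
universe u
open CategoryTheory AlgebraicGeometry Polynomial

namespace H5SekSuwa

open SekSuwa

variable {R : Type u} [CommRing R] {lam : R} {N : ℕ}

/-- `(1 + λ·root)^N = 1` in `R[X]/(P)` -/
lemma root_u_pow (h : DivCond lam N) :
    (1 + lam • AdjoinRoot.root (psiPoly lam N h)) ^ N = 1 := by
  have e := aeval_psiPoly h (AdjoinRoot.root (psiPoly lam N h))
  rw [AdjoinRoot.aeval_eq, AdjoinRoot.mk_self, mul_zero] at e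
  rw [Algebra.smul_def]
  exact (sub_eq_zero.mp e.symm)

lemma root_rel (h : DivCond lam N) (hN : 0 < N) :
    (1 + lam • AdjoinRoot.root (psiPoly lam N h)) *
      (1 + lam • AdjoinRoot.root (psiPoly lam N h)) ^ (N - 1) = 1 := by
  rw [← pow_succ', Nat.sub_add_cancel hN, root_u_pow h]

/-- the map `A → R[X]/(P)` -/
noncomputable def toAdj₀ (h : DivCond lam N) (hN : 0 < N) : A R lam →ₐ[R] AdjoinRoot (psiPoly lam N h) :=
  A.lift R lam (AdjoinRoot.root (psiPoly lam N h))
    ((1 + lam • AdjoinRoot.root (psiPoly lam N h)) ^ (N - 1)) (root_rel h hN)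

lemma toAdj₀_kerGen (h : DivCond lam N) (hN : 0 < N) : toAdj₀ h hN (kerGen lam N h) = 0 := by
  rw [kerGen, ← Polynomial.aeval_algHom_apply, toAdj₀, A.lift_t, AdjoinRoot.aeval_eq, AdjoinRoot.mk_self]

noncomputable def toAdj (h : DivCond lam N) (hN : 0 < N) : AK R lam N h →ₐ[R] AdjoinRoot (psiPoly lam N h) :=
  Ideal.Quotient.liftₐ (kerIdeal lam N h) (toAdj₀ h hN) (by
    intro z hz
    obtain ⟨c, rfl⟩ := Ideal.mem_span_singleton'.mp hz
    rw [map_mul, toAdj₀_kerGen, mul_zero])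

lemma toAdj_t (h : DivCond lam N) (hN : 0 < N) :
    toAdj h hN AK.t = AdjoinRoot.root (psiPoly lam N h) := by
  change toAdj₀ h hN A.t = _
  rw [toAdj₀, A.lift_t]

noncomputable def ofAdj (h : DivCond lam N) : AdjoinRoot (psiPoly lam N h) →ₐ[R] AK R lam N h :=
  AdjoinRoot.liftAlgHom (psiPoly lam N h) (Algebra.ofId R _) (AK.t : AK R lam N h) (by
    have := AK.aeval_t (R := R) (lam := lam) (N := N) (h := h)
    rw [Polynomial.aeval_def] at this
    exact this)

lemma ofAdj_root (h : DivCond lam N) : ofAdj h (AdjoinRoot.root (psiPoly lam N h)) = AK.t := by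
  rw [ofAdj, AdjoinRoot.liftAlgHom_root]

lemma AK_inv_eq (h : DivCond lam N) (hN : 0 < N) :
    (AK.inv : AK R lam N h) = (1 + lam • (AK.t : AK R lam N h)) ^ (N - 1) := by
  have e1 : (1 + lam • (AK.t : AK R lam N h)) * AK.inv = 1 := by
    have := congrArg (AK.mkHom R lam N h) (A.u_mul_inv (R := R) (lam := lam))
    rw [map_mul, map_one, A.u, map_add, map_one, map_smul] at this
    exact this
  have e2 : (1 + lam • (AK.t : AK R lam N h)) * (1 + lam • (AK.t : AK R lam N h)) ^ (N - 1) = 1 := by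
    rw [← pow_succ', Nat.sub_add_cancel hN, AK.u_pow]
  calc (AK.inv : AK R lam N h) = AK.inv * ((1 + lam • (AK.t : AK R lam N h)) *
        (1 + lam • (AK.t : AK R lam N h)) ^ (N - 1)) := by rw [e2, mul_one]
    _ = ((1 + lam • (AK.t : AK R lam N h)) * AK.inv) * (1 + lam • (AK.t : AK R lam N h)) ^ (N - 1) := by ring
    _ = _ := by rw [e1, one_mul]

/-- `AK ≃ R[X]/(P)` -/
noncomputable def equivAdj (h : DivCond lam N) (hN : 0 < N) :
    AK R lam N h ≃ₐ[R] AdjoinRoot (psiPoly lam N h) :=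
  AlgEquiv.ofAlgHom (toAdj h hN) (ofAdj h)
    (by
      apply AdjoinRoot.algHom_ext
      rw [AlgHom.comp_apply, ofAdj_root, toAdj_t]; rfl)
    (by
      apply AK.algHom_ext
      · rw [AlgHom.comp_apply, toAdj_t, ofAdj_root]; rfl
      · rw [AlgHom.comp_apply, AlgHom.id_apply]
        conv_lhs => rw [AK_inv_eq h hN]
        rw [map_pow, map_add, map_one, map_smul, toAdj_t, map_pow, map_add, map_one, map_smul, ofAdj_root,
          ← AK_inv_eq h hN])

end H5SekSuwa
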