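import Mathlib
import Groth.Agent.Lib.Helper5.SekSuwa.EquivAdj

set_option autoImplicit false
universe u
open CategoryTheory AlgebraicGeometry Polynomial

namespace H5SekSuwa

open SekSuwa

variable {R : Type u} [CommRing R] {lam : R} {N : ℕ}

lemma free_AK (h : DivCond lam N) (hN : 0 < N) : Module.Free R (AK R lam N h) :=
  haveI := (psiPoly_monic h hN).free_adjoinRoot
  Module.Free.of_equiv (equivAdj h hN).symm.toLinearEquiv

lemma finite_AK (h : DivCond lam N) (hN : 0 < N) : Module.Finite R (AK R lam N h) :=
  haveI := (psiPoly_monic h hN).finite_adjoinRoot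
  Module.Finite.equiv (equivAdj h hN).symm.toLinearEquiv

lemma fp_AK (h : DivCond lam N) (hN : 0 < N) : Algebra.FinitePresentation R (AK R lam N h) :=
  Algebra.FinitePresentation.equiv (equivAdj h hN).symm

lemma finrank_AK [Nontrivial R] (h : DivCond lam N) (hN : 0 < N) :
    Module.finrank R (AK R lam N h) = N := by
  rw [(equivAdj h hN).toLinearEquiv.finrank_eq,
    Module.finrank_eq_card_basis (AdjoinRoot.powerBasis' (psiPoly_monic h hN)).basis, Fintype.card_fin,
    AdjoinRoot.powerBasis'_dim, psiPoly_natDegree h hN]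

theorem main14694 (R : Type u) [CommRing R] (lam : R) (N : ℕ) (hN : 0 < N) (h : DivCond lam N) :
    Mor2.IsFinLocFreeOfDeg N (GK R lam N h).hom := by
  haveI := free_AK h hN
  haveI := finite_AK h hN
  haveI := fp_AK h hN
  change Mor2.IsFinLocFreeOfDeg N (Spec.map (CommRingCat.ofHom (algebraMap R (AK R lam N h))))
  refine ⟨⟨?_, ?_, ?_⟩, ?_⟩
  · rw [IsFinite.SpecMap_iff]
    simpa [RingHom.finite_algebraMap]
  · rw [Flat.SpecMap_iff]
    simpa [RingHom.flat_algebraMap_iff] using (inferInstance : Module.Flat R (AK R lam N h))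
  · rw [LocallyOfFinitePresentation.SpecMap_iff]
    simpa [RingHom.finitePresentation_algebraMap]
  · intro y
    haveI : Nontrivial R := (y : PrimeSpectrum R).nontrivial
    rw [Scheme.Hom.finrank_SpecMap_algebraMap, Module.rankAtStalk_eq_finrank_of_free]
    rw [finrank_AK h hN]
    rfl

end H5SekSuwa
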