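import Mathlib
import Groth.Prelude.Def_SekSuwa2
import Groth.Prelude.Def_AlgGrp

set_option autoImplicit false
universe u
open CategoryTheory AlgebraicGeometry Limits

namespace H5SekSuwa

open SekSuwa

variable (R : Type u) [CommRing R] (lam : R) (N : ℕ) (h : DivCond lam N)

lemma counit_psi_sq :
    CommRingCat.ofHom ((Bialgebra.counitAlgHom R (A R (lam ^ N)) : A R (lam ^ N) →ₐ[R] R) :
        A R (lam ^ N) →+* R) ≫ CommRingCat.ofHom (algebraMap R (AK R lam N h)) =
      CommRingCat.ofHom (psiHom R lam N h : A R (lam ^ N) →+* A R lam) ≫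
        CommRingCat.ofHom (AK.mkHom R lam N h : A R lam →+* AK R lam N h) := by
  have := mkHom_comp_psiHom R lam N h
  apply CommRingCat.hom_ext
  ext z
  have h2 := congrArg (fun φ : A R (lam ^ N) →ₐc[R] AK R lam N h => φ z) this
  exact h2.symm

end H5SekSuwa

namespace H5SekSuwa

open SekSuwa

variable (R : Type u) [CommRing R] (lam : R) (N : ℕ) (h : DivCond lam N)

/-- the four ring maps -/
noncomputable abbrev cR : CommRingCat.of (A R (lam ^ N)) ⟶ CommRingCat.of R :=
  CommRingCat.ofHom ((Bialgebra.counitAlgHom R (A R (lam ^ N)) : A R (lam ^ N) →ₐ[R] R) :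
        A R (lam ^ N) →+* R)
noncomputable abbrev pR : CommRingCat.of (A R (lam ^ N)) ⟶ CommRingCat.of (A R lam) :=
  CommRingCat.ofHom (psiHom R lam N h : A R (lam ^ N) →+* A R lam)
noncomputable abbrev aR : CommRingCat.of R ⟶ CommRingCat.of (AK R lam N h) :=
  CommRingCat.ofHom (algebraMap R (AK R lam N h))
noncomputable abbrev mR : CommRingCat.of (A R lam) ⟶ CommRingCat.of (AK R lam N h) :=
  CommRingCat.ofHom (AK.mkHom R lam N h : A R lam →+* AK R lam N h)

lemma mk_surjective : Function.Surjective (AK.mkHom R lam N h : A R lam → AK R lam N h) :=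
  Ideal.Quotient.mk_surjective

/-- descent to the quotient -/
noncomputable def descHom (s : PushoutCocone (cR R lam N) (pR R lam N h)) :
    AK R lam N h →+* s.pt :=
  Ideal.Quotient.lift (kerIdeal lam N h) s.inr.hom (by
    intro z hz
    obtain ⟨c, rfl⟩ := Ideal.mem_span_singleton'.mp hz
    rw [map_mul]
    have h1 : s.inr.hom (kerGen lam N h) = 0 := by
      have hc := s.condition
      have h2 := congrArg (fun φ => φ.hom (A.t : A R (lam ^ N))) hc
      simp only [CommRingCat.hom_comp, RingHom.comp_apply, CommRingCat.hom_ofHom] at h2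
      have h3 : (psiHom R lam N h : A R (lam ^ N) →+* A R lam) A.t = kerGen lam N h :=
        psiHom_t R lam N h
      have h4 : ((Bialgebra.counitAlgHom R (A R (lam ^ N)) : A R (lam ^ N) →ₐ[R] R) :
        A R (lam ^ N) →+* R) A.t = 0 := A.counit_t
      rw [h3, h4, map_zero] at h2
      exact h2.symm
    rw [h1, mul_zero])

lemma descHom_mk (s : PushoutCocone (cR R lam N) (pR R lam N h)) (z : A R lam) :
    descHom R lam N h s (AK.mkHom R lam N h z) = s.inr.hom z := rfl

theorem isPushout_ring : IsPushout (cR R lam N) (pR R lam N h) (aR R lam N h) (mR R lam N h) := by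
  refine IsPushout.of_isColimit (c := PushoutCocone.mk _ _ (counit_psi_sq R lam N h)) ?_
  refine PushoutCocone.IsColimit.mk _ (fun s => CommRingCat.ofHom (descHom R lam N h s)) ?_ ?_ ?_
  · intro s
    apply CommRingCat.hom_ext
    ext r
    change descHom R lam N h s (algebraMap R (AK R lam N h) r) = s.inl.hom r
    have e1 : algebraMap R (AK R lam N h) r = AK.mkHom R lam N h (algebraMap R (A R lam) r) := rfl
    rw [e1, descHom_mk]
    have hc := s.condition
    have h2 := congrArg (fun φ => φ.hom (algebraMap R (A R (lam ^ N)) r)) hc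
    simp only [CommRingCat.hom_comp, RingHom.comp_apply, CommRingCat.hom_ofHom] at h2
    have h3 : (psiHom R lam N h : A R (lam ^ N) →+* A R lam) (algebraMap R (A R (lam ^ N)) r) =
        algebraMap R (A R lam) r := AlgHomClass.commutes (psiHom R lam N h) r
    have h4 : ((Bialgebra.counitAlgHom R (A R (lam ^ N)) : A R (lam ^ N) →ₐ[R] R) :
        A R (lam ^ N) →+* R) (algebraMap R (A R (lam ^ N)) r) = r :=
      (Bialgebra.counitAlgHom R (A R (lam ^ N))).commutes r
    rw [h3, h4] at h2
    exact h2.symm
  · intro s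
    apply CommRingCat.hom_ext
    ext z
    rfl
  · intro s m hm1 hm2
    apply CommRingCat.hom_ext
    ext w
    obtain ⟨z, rfl⟩ := mk_surjective R lam N h w
    change m.hom (AK.mkHom R lam N h z) = descHom R lam N h s (AK.mkHom R lam N h z)
    rw [descHom_mk, ← hm2]
    rfl

end H5SekSuwa
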