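import Mathlib
import Groth.Agent.Lib.Helper5.SekSuwa.KerPushout

set_option autoImplicit false
universe u
open CategoryTheory AlgebraicGeometry Limits MonObj CartesianMonoidalCategory

namespace H5SekSuwa

open SekSuwa

variable (R : Type u) [CommRing R] (lam : R) (N : ℕ) (h : DivCond lam N)

theorem isPullback_Spec :
    IsPullback (Spec.map (mR R lam N h)) (Spec.map (aR R lam N h)) (Spec.map (pR R lam N h))
      (Spec.map (cR R lam N)) := by
  have h1 := (isPushout_ring R lam N h).op
  exact h1.map Scheme.Spec

theorem main14693 : AlgGrp.IsKernel (SekSuwa.incl R lam N h) (SekSuwa.psi R lam N h) := by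
  unfold AlgGrp.IsKernel
  have e : incl R lam N h ≫ psi R lam N h = toUnit (GK R lam N h) ≫ η[G R (lam ^ N)] := by
    rw [incl_psi, Hom.one_def]
  refine IsPullback.of_map (Over.forget _) e ?_
  have hu : (toUnit (GK R lam N h)).left = Spec.map (aR R lam N h) := by
    rw [← Category.comp_id (toUnit (GK R lam N h)).left]
    exact Over.w (toUnit (GK R lam N h))
  have hη : (η[G R (lam ^ N)]).left = Spec.map (cR R lam N) := rfl
  change IsPullback (incl R lam N h).left (toUnit (GK R lam N h)).left (psi R lam N h).left
    (η[G R (lam ^ N)]).left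
  rw [hu, hη]
  exact isPullback_Spec R lam N h

end H5SekSuwa
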